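import Mathlib

/-!
Extensions of perfect fields are formally smooth; coefficient fields of complete local rings
containing a field.
-/

open MvPolynomial TensorProduct KaehlerDifferential

namespace Groth.Agent.CoeffField

universe u v w

variable {k : Type u} [Field k] {L : Type v} [Field L] [Algebra k L]

/-- Every extension of a perfect field is formally smooth. -/
theorem formallySmooth_of_perfectField (k : Type u) [Field k] [PerfectField k] (L : Type v)
    [Field L] [Algebra k L] : Algebra.FormallySmooth k L := by
  refine ⟨inferInstance, ?_⟩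
  letI algL : Algebra (MvPolynomial L k) L := (aeval (id : L → L)).toRingHom.toAlgebra
  haveI : IsScalarTower k (MvPolynomial L k) L :=
    .of_algebraMap_eq' (aeval (id : L → L)).comp_algebraMap.symm
  have hsurj : Function.Surjective (algebraMap (MvPolynomial L k) L) := fun x => ⟨X x, aeval_X _ x⟩
  rw [← Algebra.FormallySmooth.kerCotangentToTensor_injective_iff (P := MvPolynomial L k) hsurj,
    injective_iff_map_eq_zero]
  intro z hz
  obtain ⟨⟨f, hf⟩, rfl⟩ := Ideal.toCotangent_surjective _ z
  rw [Ideal.toCotangent_eq_zero]
  have hz' : (1 : L) ⊗ₜ[MvPolynomial L k] D k (MvPolynomial L k) f = 0 := hz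
  have hder : ∀ x : L, aeval (id : L → L) (pderiv x f) = 0 := by
    intro x
    have := DFunLike.congr_fun (congrArg ((mvPolynomialBasis k L).baseChange L).repr hz') x
    simp [Algebra.smul_def] at this
    exact this
  obtain ⟨s, g, rfl⟩ := exists_finset_rename f
  let F : IntermediateField k L := IntermediateField.adjoin k (s : Set L)
  haveI : Algebra.EssFiniteType k F :=
    IntermediateField.essFiniteType_iff.2 (IntermediateField.fg_adjoin_finset s)
  let ι : {x // x ∈ s} → F := fun x => ⟨x, IntermediateField.subset_adjoin k _ x.2⟩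
  let g' : MvPolynomial F k := rename ι g
  have hinj : Function.Injective (fun y : F => (y : L)) := Subtype.val_injective
  have hren : rename (fun y : F => (y : L)) g' = rename (Subtype.val : {x // x ∈ s} → L) g := by
    rw [rename_rename]; rfl
  show rename (Subtype.val : {x // x ∈ s} → L) g ∈ RingHom.ker (algebraMap (MvPolynomial L k) L) ^ 2
  clear hz hz'
  rw [← hren] at hder hf ⊢
  have hcomp : ∀ p : MvPolynomial F k,
      aeval (id : L → L) (rename (fun y : F => (y : L)) p) = ((aeval (id : F → F) p : F) : L) := by
    intro p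
    rw [aeval_rename]
    exact (comp_aeval_apply (id : F → F) F.val p).symm
  letI algF : Algebra (MvPolynomial F k) F := (aeval (id : F → F)).toRingHom.toAlgebra
  haveI : IsScalarTower k (MvPolynomial F k) F :=
    .of_algebraMap_eq' (aeval (id : F → F)).comp_algebraMap.symm
  have hsurjF : Function.Surjective (algebraMap (MvPolynomial F k) F) := fun x => ⟨X x, aeval_X _ x⟩
  have hg : g' ∈ RingHom.ker (algebraMap (MvPolynomial F k) F) :=
    hinj ((hcomp g').symm.trans hf)
  have hFinj := (Algebra.FormallySmooth.kerCotangentToTensor_injective_iff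
    (R := k) (A := F) (P := MvPolynomial F k) hsurjF).2 inferInstance
  have hzero : kerCotangentToTensor k (MvPolynomial F k) F (Ideal.toCotangent _ ⟨g', hg⟩) = 0 := by
    show (1 : F) ⊗ₜ[MvPolynomial F k] D k (MvPolynomial F k) g' = 0
    apply ((mvPolynomialBasis k F).baseChange F).repr.injective
    refine Finsupp.ext fun y => ?_
    have h1 := hder (y : L)
    rw [pderiv_rename hinj, hcomp] at h1
    simp [Algebra.smul_def]
    exact hinj h1
  have h2 := hFinj (hzero.trans (map_zero _).symm)
  rw [Ideal.toCotangent_eq_zero] at h2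
  have h3 := Ideal.mem_map_of_mem (rename (fun y : F => (y : L))).toRingHom h2
  rw [Ideal.map_pow] at h3
  refine Ideal.pow_right_mono ?_ 2 h3
  rw [Ideal.map_le_iff_le_comap]
  intro p hp
  show aeval (id : L → L) (rename (fun y : F => (y : L)) p) = 0
  rw [hcomp, show aeval (id : F → F) p = 0 from hp]
  rfl

/-- A complete local ring over a perfect field has a coefficient field containing it. -/
theorem exists_section (k : Type u) [Field k] [PerfectField k] (R : Type v) [CommRing R]
    [IsLocalRing R] [IsAdicComplete (IsLocalRing.maximalIdeal R) R] [Algebra k R] :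
    ∃ σ : IsLocalRing.ResidueField R →ₐ[k] R,
      ∀ x, IsLocalRing.residue R (σ x) = x := by
  haveI : Algebra.FormallySmooth k (R ⧸ IsLocalRing.maximalIdeal R) :=
    formallySmooth_of_perfectField k (IsLocalRing.ResidueField R)
  obtain ⟨σ, hσ⟩ := Algebra.FormallySmooth.exists_mkₐ_comp_eq_of_isAdicComplete
    (AlgHom.id k (R ⧸ IsLocalRing.maximalIdeal R))
  exact ⟨σ, fun x => AlgHom.congr_fun hσ x⟩

/-- A complete local ring containing a field has a coefficient field. -/
theorem exists_ringHom_section (k : Type u) [Field k] (R : Type v) [CommRing R] [IsLocalRing R]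
    [IsAdicComplete (IsLocalRing.maximalIdeal R) R] [Algebra k R] :
    ∃ σ : IsLocalRing.ResidueField R →+* R, ∀ x, IsLocalRing.residue R (σ x) = x := by
  obtain ⟨p, hp⟩ := CharP.exists k
  rcases CharP.char_is_prime_or_zero k p with hpp | hp0
  · have := Fact.mk hpp
    letI : Algebra (ZMod p) k := ZMod.algebra k p
    letI : Algebra (ZMod p) R := ((algebraMap k R).comp (algebraMap (ZMod p) k)).toAlgebra
    obtain ⟨σ, hσ⟩ := exists_section (ZMod p) R
    exact ⟨σ.toRingHom, hσ⟩
  · subst hp0
    have := CharP.charP_to_charZero k
    letI : Algebra ℚ R := ((algebraMap k R).comp (algebraMap ℚ k)).toAlgebra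
    obtain ⟨σ, hσ⟩ := exists_section ℚ R
    exact ⟨σ.toRingHom, hσ⟩

end Groth.Agent.CoeffField
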