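import Groth.Agent.CoeffField.Smooth
import Groth.Agent.PSLib.Regular

/-!
Power series over a formally smooth extension are adically formally smooth.
-/

namespace Groth.Agent.CoeffField

universe u v w

lemma isAdicComplete_of_pow_eq_bot {A : Type u} [CommRing A] {I : Ideal A} {N : ℕ}
    (h : I ^ N = ⊥) : IsAdicComplete I A where
  haus' x hx := by
    have := hx N
    simpa [SModEq.sub_mem, h] using this
  prec' f hf := ⟨f N, fun n => by
    rcases le_total n N with hle | hle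
    · exact hf hle
    · have := hf hle
      simp only [SModEq.sub_mem, h, smul_eq_mul, Ideal.bot_mul, Ideal.mem_bot, sub_eq_zero] at this
      rw [this]⟩

theorem lift_powerSeries {k : Type u} [CommRing k] {K : Type u} [Field K] [Algebra k K]
    [Algebra.FormallySmooth k K] (n : ℕ) [Algebra k (MvPowerSeries (Fin n) K)]
    [IsScalarTower k K (MvPowerSeries (Fin n) K)]
    (A : Type u) [CommRing A] [Algebra k A] (J : Ideal A) (hJ : J ^ 2 = ⊥)
    (ψ : MvPowerSeries (Fin n) K →ₐ[k] A ⧸ J)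
    (hψ : ∃ e : ℕ, ∀ x ∈ IsLocalRing.maximalIdeal (MvPowerSeries (Fin n) K) ^ e, ψ x = 0) :
    ∃ χ : MvPowerSeries (Fin n) K →ₐ[k] A, (Ideal.Quotient.mkₐ k J).comp χ = ψ := by
  obtain ⟨e, he⟩ := hψ
  rw [PSLib.maximalIdeal_eq_vars] at he
  let φ : K →ₐ[k] A ⧸ J := ψ.comp (IsScalarTower.toAlgHom k K _)
  let σ : K →ₐ[k] A := Algebra.FormallySmooth.lift J ⟨2, hJ⟩ φ
  have hσ : ∀ c, Ideal.Quotient.mk J (σ c) = ψ (algebraMap K _ c) :=
    fun c => Algebra.FormallySmooth.mk_lift J ⟨2, hJ⟩ φ c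
  choose a ha using fun i => Ideal.Quotient.mk_surjective (ψ (MvPowerSeries.X i : MvPowerSeries (Fin n) K))
  let I : Ideal A := Ideal.span (Set.range a)
  have hmap : I.map (Ideal.Quotient.mk J) = (PSLib.vars n K).map ψ.toRingHom := by
    simp only [I, PSLib.vars, Ideal.map_span, ← Set.range_comp]
    congr 1
    refine congrArg Set.range (funext fun i => ?_)
    simpa using ha i
  have hIe : (I ^ e).map (Ideal.Quotient.mk J) = ⊥ := by
    rw [Ideal.map_pow, hmap, ← Ideal.map_pow, Ideal.map_eq_bot_iff_le_ker]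
    exact fun x hx => he x hx
  have hI : I ^ (2 * e) = ⊥ := by
    rw [mul_comm, pow_mul, eq_bot_iff, ← hJ]
    refine Ideal.pow_right_mono ?_ 2
    rwa [Ideal.map_eq_bot_iff_le_ker, Ideal.mk_ker] at hIe
  let : Algebra K A := σ.toRingHom.toAlgebra
  have : IsScalarTower k K A := .of_algebraMap_eq fun c => (σ.commutes c).symm
  have := isAdicComplete_of_pow_eq_bot hI
  obtain ⟨χ, hχ⟩ := PSLib.exists_algHom (R := K) I a (fun i => Ideal.subset_span ⟨i, rfl⟩)
  refine ⟨χ.restrictScalars k, AlgHom.ext fun f => ?_⟩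
  let ψK : MvPowerSeries (Fin n) K →ₐ[K] A ⧸ J :=
    { ψ.toRingHom with commutes' := fun c => (hσ c).symm }
  have hIbar : (I.map (Ideal.Quotient.mk J)) ^ e = ⊥ := by rw [← Ideal.map_pow, hIe]
  have := isAdicComplete_of_pow_eq_bot hIbar
  have key : (Ideal.Quotient.mkₐ K J).comp χ = ψK := by
    refine PSLib.algHom_ext (I := I.map (Ideal.Quotient.mk J)) _ _ (fun i => ?_) (fun i => ?_)
    · show Ideal.Quotient.mk J (χ _) ∈ _
      rw [hχ]; exact Ideal.mem_map_of_mem _ (Ideal.subset_span ⟨i, rfl⟩)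
    · show Ideal.Quotient.mk J (χ _) = ψ _
      rw [hχ, ha]
  exact AlgHom.congr_fun key f

/-- Extend a lift of the coefficients to a lift of the power series. -/
theorem lift_powerSeries_of_section {Λ : Type u} [CommRing Λ] (n : ℕ) {A : Type u} [CommRing A]
    (J : Ideal A) (hJ : J ^ 2 = ⊥) (ψ : MvPowerSeries (Fin n) Λ →+* A ⧸ J)
    (hψ : ∃ e : ℕ, ∀ x ∈ PSLib.vars n Λ ^ e, ψ x = 0) (σ : Λ →+* A)
    (hσ : ∀ c, Ideal.Quotient.mk J (σ c) = ψ (MvPowerSeries.C c)) :
    ∃ χ : MvPowerSeries (Fin n) Λ →+* A, (Ideal.Quotient.mk J).comp χ = ψ ∧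
      ∀ c, χ (MvPowerSeries.C c) = σ c := by
  obtain ⟨e, he⟩ := hψ
  choose a ha using fun i => Ideal.Quotient.mk_surjective (ψ (MvPowerSeries.X i : MvPowerSeries (Fin n) Λ))
  let I : Ideal A := Ideal.span (Set.range a)
  have hmap : I.map (Ideal.Quotient.mk J) = (PSLib.vars n Λ).map ψ := by
    simp only [I, PSLib.vars, Ideal.map_span, ← Set.range_comp]
    congr 1
    refine congrArg Set.range (funext fun i => ?_)
    simpa using ha i
  have hIe : (I ^ e).map (Ideal.Quotient.mk J) = ⊥ := by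
    rw [Ideal.map_pow, hmap, ← Ideal.map_pow, Ideal.map_eq_bot_iff_le_ker]
    exact fun x hx => he x hx
  have hI : I ^ (2 * e) = ⊥ := by
    rw [mul_comm, pow_mul, eq_bot_iff, ← hJ]
    refine Ideal.pow_right_mono ?_ 2
    rwa [Ideal.map_eq_bot_iff_le_ker, Ideal.mk_ker] at hIe
  let : Algebra Λ A := σ.toAlgebra
  have := isAdicComplete_of_pow_eq_bot hI
  obtain ⟨χ, hχ⟩ := PSLib.exists_algHom (R := Λ) I a (fun i => Ideal.subset_span ⟨i, rfl⟩)
  refine ⟨χ.toRingHom, RingHom.ext fun f => ?_, fun c => χ.commutes c⟩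
  let ψK : MvPowerSeries (Fin n) Λ →ₐ[Λ] A ⧸ J :=
    { ψ with commutes' := fun c => (hσ c).symm }
  have hIbar : (I.map (Ideal.Quotient.mk J)) ^ e = ⊥ := by rw [← Ideal.map_pow, hIe]
  have := isAdicComplete_of_pow_eq_bot hIbar
  have key : (Ideal.Quotient.mkₐ Λ J).comp χ = ψK := by
    refine PSLib.algHom_ext (I := I.map (Ideal.Quotient.mk J)) _ _ (fun i => ?_) (fun i => ?_)
    · show Ideal.Quotient.mk J (χ _) ∈ _
      rw [hχ]; exact Ideal.mem_map_of_mem _ (Ideal.subset_span ⟨i, rfl⟩)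
    · show Ideal.Quotient.mk J (χ _) = ψ _
      rw [hχ, ha]
  exact AlgHom.congr_fun key f

end Groth.Agent.CoeffField
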